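/-
Depth two for modules induced along a one-parameter deformation with a section.
-/
import Mathlib
import Groth.Prelude.Def_CAlg

universe u

open TensorProduct
open scoped Pointwise

namespace Groth.TFNodalDepth

/-- If `B` is an `A`-algebra with a retraction `σ` whose kernel is generated by `t`, then
`B ⊗ N` has depth at least two as soon as `t` is regular on it and `N` has a regular element
in the maximal ideal. -/
theorem two_le_depth_of_section {A B : Type u} [CommRing A] [CommRing B] [IsLocalRing B]
    [Algebra A B] {N M : Type u} [AddCommGroup N] [Module A N] [AddCommGroup M] [Module B M]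
    (σ : B →+* A) (hσ : ∀ r, σ (algebraMap A B r) = r) {t : B}
    (htm : t ∈ IsLocalRing.maximalIdeal B) (hσt : σ t = 0)
    (hker : ∀ b, ∃ c, b = algebraMap A B (σ b) + t * c) {a : A}
    (ham : algebraMap A B a ∈ IsLocalRing.maximalIdeal B) (haN : IsSMulRegular N a)
    (e : B ⊗[A] N ≃ₗ[B] M) (htM : IsSMulRegular M t) :
    (2 : ℕ∞) ≤ LocCoh.depth B M := by
  let h : B ⊗[A] N →ₗ[A] N := TensorProduct.lift (LinearMap.mk₂ A (fun b n => σ b • n)
    (fun b b' n => by simp [add_smul])
    (fun r b n => by rw [Algebra.smul_def, map_mul, hσ, mul_smul])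
    (fun b n n' => smul_add _ _ _)
    (fun r b n => smul_comm _ _ _))
  have hdec : ∀ w : B ⊗[A] N, ∃ (n : N) (v : B ⊗[A] N), w = (1 : B) ⊗ₜ n + t • v := by
    intro w
    induction w using TensorProduct.induction_on with
    | zero => exact ⟨0, 0, by simp⟩
    | tmul b n =>
      obtain ⟨c, hc⟩ := hker b
      refine ⟨σ b • n, c ⊗ₜ n, ?_⟩
      rw [tmul_smul, smul_tmul', smul_tmul', ← add_tmul, Algebra.smul_def, mul_one,
        smul_eq_mul, ← hc]
    | add x y hx hy =>
      obtain ⟨n, v, rfl⟩ := hx
      obtain ⟨n', v', rfl⟩ := hy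
      exact ⟨n + n', v + v', by rw [tmul_add, smul_add]; abel⟩
  have hht : ∀ v : B ⊗[A] N, h (t • v) = 0 := by
    intro v
    induction v using TensorProduct.induction_on with
    | zero => simp
    | tmul b n =>
      rw [smul_tmul']
      simp [h, hσt]
    | add x y hx hy => rw [smul_add, map_add, hx, hy, add_zero]
  have hsnd : IsSMulRegular (QuotSMulTop t M) (algebraMap A B a) := by
    refine (isSMulRegular_quotient_iff_mem_of_smul_mem _ _).2 fun m hm => ?_
    obtain ⟨y, -, hy⟩ := (Submodule.mem_smul_pointwise_iff_exists _ _ _).1 hm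
    obtain ⟨n, v, hw⟩ := hdec (e.symm m)
    have hn : a • n = 0 := by
      have h1 : h (a • e.symm m) = 0 := by
        rw [← algebraMap_smul B a (e.symm m), ← map_smul e.symm, ← hy, map_smul]
        exact hht _
      rw [map_smul, hw, map_add, hht, add_zero] at h1
      simpa [h] using h1
    have hn0 : n = 0 := haN (hn.trans (smul_zero a).symm)
    refine (Submodule.mem_smul_pointwise_iff_exists _ _ _).2 ⟨e v, trivial, ?_⟩
    rw [← map_smul, ← e.apply_symm_apply m, hw, hn0, tmul_zero, zero_add]
  rw [LocCoh.depth, LocCoh.idealDepth]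
  split_ifs with htop
  · exact le_top
  · refine le_trans ?_ (le_iSup₂ [t, algebraMap A B a] ⟨?_, ?_⟩)
    · simp
    · exact (RingTheory.Sequence.isWeaklyRegular_cons_iff _ _ _).2
        ⟨htM, (RingTheory.Sequence.isWeaklyRegular_singleton_iff _ _).2 hsnd⟩
    · intro r hr
      rcases List.mem_cons.1 hr with rfl | hr
      · exact htm
      · rcases List.mem_singleton.1 hr with rfl
        exact ham

/-- In a reduced Noetherian local ring of positive dimension, the maximal ideal contains a regular
element. -/
theorem exists_mem_maximalIdeal_isRegular {R : Type u} [CommRing R] [IsNoetherianRing R]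
    [IsLocalRing R] [IsReduced R] (hdim : ¬ ringKrullDim R ≤ 0) :
    ∃ a ∈ IsLocalRing.maximalIdeal R, IsRegular a := by
  have hnot : ¬ (IsLocalRing.maximalIdeal R : Set R) ⊆ ⋃ p ∈ minimalPrimes R, (p : Set R) := by
    intro hsub
    obtain ⟨p, hp, hle⟩ := (Ideal.subset_union_prime_finite (minimalPrimes.finite_of_isNoetherianRing R)
      (f := id) ⊥ ⊥ (fun p hp _ _ => hp.1.1)).1 hsub
    apply hdim
    have : Ring.KrullDimLE 0 R := Ring.krullDimLE_zero_iff.2 fun I hI => by
      have h1 : p = IsLocalRing.maximalIdeal R :=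
        le_antisymm (IsLocalRing.le_maximalIdeal hp.1.1.ne_top) hle
      have h2 : I = IsLocalRing.maximalIdeal R := le_antisymm (IsLocalRing.le_maximalIdeal hI.ne_top)
        (h1 ▸ hp.2 ⟨hI, bot_le⟩ (h1 ▸ IsLocalRing.le_maximalIdeal hI.ne_top))
      exact h2 ▸ inferInstance
    simpa using Ring.krullDimLE_iff.1 this
  obtain ⟨a, ha, hap⟩ := Set.not_subset.1 hnot
  refine ⟨a, ha, isRegular_iff_mem_nonZeroDivisors.2 (mem_nonZeroDivisors_iff_right.2 fun b hb => ?_)⟩
  have : b ∈ nilradical R := by
    rw [nilradical, ← Ideal.sInf_minimalPrimes]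
    refine Submodule.mem_sInf.2 fun p hp => ?_
    rcases hp.1.1.mem_or_mem (show b * a ∈ p by rw [hb]; exact zero_mem p) with h | h
    · exact h
    · exact absurd (Set.mem_biUnion (show p ∈ minimalPrimes R from hp) h) hap
  simpa [nilradical_eq_zero] using this

end Groth.TFNodalDepth
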