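/-
Depth of the pullback of a torsion free module to a product with a smooth curve.
-/
import Groth.Agent.TFNodal.DepthTwo
import Groth.Agent.QCohMod.Pullback
import Groth.Agent.FlatMorOne.FlatBaseChangeScheme
import Groth.Agent.Inter.EulerFamily
import Groth.Agent.CurveBridge.SmoothCurve
import Groth.Agent.Abvar.Hom
import Groth.Prelude.Def_TorSh

universe u

open CategoryTheory CategoryTheory.Limits AlgebraicGeometry

namespace Groth.TFNodalDepth

/-- A morphism from the spectrum of a local ring factors through the stalk at the image of the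
closed point. -/
theorem exists_stalk_map_of_closedPoint {R : CommRingCat.{u}} [IsLocalRing R] {Z : Scheme.{u}}
    (L : Spec R ⟶ Z) (z : Z) (h : L (IsLocalRing.closedPoint R) = z) :
    ∃ σ : Z.presheaf.stalk z ⟶ R, Spec.map σ ≫ Z.fromSpecStalk z = L := by
  subst h
  exact ⟨Scheme.stalkClosedPointTo L, Scheme.Spec_stalkClosedPointTo_fromSpecStalk L⟩

variable {k : Type u} [Field k] [IsAlgClosed k] {X C : Scheme.{u}}

theorem exists_kpoint_factor (fX : X ⟶ Spec (CommRingCat.of k)) [LocallyOfFiniteType fX]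
    {x : X} (hx : IsClosed ({x} : Set X)) :
    ∃ γ : X.presheaf.stalk x ⟶ CommRingCat.of k,
      Spec.map γ ≫ X.fromSpecStalk x = pointOfClosedPoint fX x hx ∧
      ∀ r ∈ IsLocalRing.maximalIdeal (X.presheaf.stalk x), γ r = 0 := by
  refine ⟨X.residue x ≫ (residueFieldIsoBase fX x hx).hom, ?_, fun r hr => ?_⟩
  · rw [Spec.map_comp, Category.assoc]
    rfl
  · rw [CommRingCat.comp_apply]
    have : X.residue x r = 0 := Ideal.Quotient.eq_zero_iff_mem.2 hr
    rw [this, map_zero]

theorem isClosed_fst_apply (fX : X ⟶ Spec (CommRingCat.of k)) [LocallyOfFiniteType fX]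
    (fC : C ⟶ Spec (CommRingCat.of k)) [LocallyOfFiniteType fC]
    (z : ↑(pullback fX fC)) (hz : IsClosed ({z} : Set _)) :
    IsClosed ({pullback.fst fX fC z} : Set X) := by
  have h := ((pointEquivClosedPoint fX) ⟨pointOfClosedPoint (pullback.fst fX fC ≫ fX) z hz ≫
    pullback.fst fX fC, by rw [Category.assoc, pointOfClosedPoint_comp]⟩).2
  simpa using h

/-- The section `X → X ×_k C` at a closed point, on stalks. -/
theorem exists_stalk_section (fX : X ⟶ Spec (CommRingCat.of k)) [LocallyOfFiniteType fX]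
    (fC : C ⟶ Spec (CommRingCat.of k)) [LocallyOfFiniteType fC]
    (z : ↑(pullback fX fC)) (hz : IsClosed ({z} : Set _))
    (hc : IsClosed ({pullback.snd fX fC z} : Set C))
    (t : C.presheaf.stalk (pullback.snd fX fC z))
    (ht : IsLocalRing.maximalIdeal _ = Ideal.span {t}) :
    ∃ σ : (pullback fX fC).presheaf.stalk z ⟶ X.presheaf.stalk (pullback.fst fX fC z),
      (pullback.fst fX fC).stalkMap z ≫ σ = 𝟙 _ ∧
      σ ((pullback.snd fX fC).stalkMap z t) = 0 ∧
      ∀ b, ∃ e, b = (pullback.fst fX fC).stalkMap z (σ b) + (pullback.snd fX fC).stalkMap z t * e := by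
  have hx := isClosed_fst_apply fX fC z hz
  obtain ⟨γX, hγX, -⟩ := exists_kpoint_factor fX hx
  obtain ⟨γC, hγC, hγC0⟩ := exists_kpoint_factor fC hc
  set ck := pointOfClosedPoint fC ((pullback.snd fX fC) z) hc with hck
  set τ := Spec.preimage (X.fromSpecStalk ((pullback.fst fX fC) z) ≫ fX) with hτ'
  have hτ : Spec.map τ = X.fromSpecStalk ((pullback.fst fX fC) z) ≫ fX := Spec.map_preimage _
  let L : Spec (X.presheaf.stalk ((pullback.fst fX fC) z)) ⟶ pullback fX fC :=
    pullback.lift (X.fromSpecStalk ((pullback.fst fX fC) z)) ((X.fromSpecStalk ((pullback.fst fX fC) z) ≫ fX) ≫ ck)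
      (by simp only [Category.assoc, hck, pointOfClosedPoint_comp, Category.comp_id])
  have hzk : Spec.map γX ≫ L = pointOfClosedPoint ((pullback.fst fX fC) ≫ fX) z hz := by
    have h1 : pointOfClosedPoint ((pullback.fst fX fC) ≫ fX) z hz ≫ (pullback.fst fX fC) = pointOfClosedPoint fX ((pullback.fst fX fC) z) hx :=
      ext_of_apply_closedPoint_eq fX (by rw [Category.assoc, pointOfClosedPoint_comp])
        (pointOfClosedPoint_comp _ _ _) (by simp)
    have h2 : pointOfClosedPoint ((pullback.fst fX fC) ≫ fX) z hz ≫ (pullback.snd fX fC) = ck :=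
      ext_of_apply_closedPoint_eq fC
        (by rw [Category.assoc, ← pullback.condition, pointOfClosedPoint_comp])
        (pointOfClosedPoint_comp _ _ _) (by simp [hck])
    apply pullback.hom_ext
    · rw [Category.assoc, pullback.lift_fst, hγX, h1]
    · rw [Category.assoc, pullback.lift_snd, Category.assoc, reassoc_of% hγX,
        pointOfClosedPoint_comp_assoc, h2]
  have hcl : Spec.map γX (IsLocalRing.closedPoint k) = IsLocalRing.closedPoint _ := by
    apply (X.fromSpecStalk ((pullback.fst fX fC) z)).isEmbedding.injective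
    rw [Scheme.fromSpecStalk_closedPoint]
    exact (congr($hγX (IsLocalRing.closedPoint k))).trans (pointOfClosedPoint_apply _ _ _ _)
  have hLz : L (IsLocalRing.closedPoint _) = z := by
    rw [← hcl]
    exact (congr($hzk (IsLocalRing.closedPoint k))).trans (pointOfClosedPoint_apply _ _ _ _)
  obtain ⟨σ, hσ⟩ := exists_stalk_map_of_closedPoint L z hLz
  have hfst : Spec.map σ ≫ Spec.map ((pullback.fst fX fC).stalkMap z) = 𝟙 _ := by
    rw [← cancel_mono (X.fromSpecStalk ((pullback.fst fX fC) z)), Category.assoc,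
      Scheme.SpecMap_stalkMap_fromSpecStalk, reassoc_of% hσ, pullback.lift_fst, Category.id_comp]
  have hφσ : (pullback.fst fX fC).stalkMap z ≫ σ = 𝟙 _ := Spec.map_injective (by rw [Spec.map_comp, hfst, Spec.map_id])
  have hψσ : (pullback.snd fX fC).stalkMap z ≫ σ = γC ≫ τ := Spec.map_injective (by
    rw [← cancel_mono (C.fromSpecStalk ((pullback.snd fX fC) z)), Spec.map_comp, Spec.map_comp, Category.assoc,
      Category.assoc, Scheme.SpecMap_stalkMap_fromSpecStalk, reassoc_of% hσ, pullback.lift_snd,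
      hτ, hγC])
  refine ⟨σ, hφσ, ?_, ?_⟩
  · have h := congr($hψσ t)
    rw [CommRingCat.comp_apply, CommRingCat.comp_apply,
      hγC0 t (ht ▸ Ideal.mem_span_singleton_self t), map_zero] at h
    exact h
  set t' := (pullback.snd fX fC).stalkMap z t with ht'
  let π : (pullback fX fC).presheaf.stalk z ⟶
      CommRingCat.of ((pullback fX fC).presheaf.stalk z ⧸ Ideal.span {t'}) :=
    CommRingCat.ofHom (Ideal.Quotient.mk _)
  have hkill : ∀ r ∈ IsLocalRing.maximalIdeal (C.presheaf.stalk ((pullback.snd fX fC) z)),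
      ((pullback.snd fX fC).stalkMap z ≫ π).hom r = 0 := by
    intro r hr
    rw [ht, Ideal.mem_span_singleton] at hr
    obtain ⟨s, rfl⟩ := hr
    have h1 : ((pullback.snd fX fC).stalkMap z ≫ π).hom t = 0 :=
      Ideal.Quotient.eq_zero_iff_mem.2 (Ideal.mem_span_singleton_self t')
    rw [map_mul, h1, zero_mul]
  let ρ : C.residueField ((pullback.snd fX fC) z) ⟶
      CommRingCat.of ((pullback fX fC).presheaf.stalk z ⧸ Ideal.span {t'}) :=
    CommRingCat.ofHom (Ideal.Quotient.lift _ ((pullback.snd fX fC).stalkMap z ≫ π).hom hkill)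
  have hρ : (pullback.snd fX fC).stalkMap z ≫ π = C.residue ((pullback.snd fX fC) z) ≫ ρ := rfl
  have hA : Spec.map π ≫ (pullback fX fC).fromSpecStalk z ≫ (pullback.snd fX fC) =
      (Spec.map ρ ≫ Spec.map (residueFieldIsoBase fC ((pullback.snd fX fC) z) hc).inv) ≫ ck := by
    rw [← Scheme.SpecMap_stalkMap_fromSpecStalk, ← Spec.map_comp_assoc, hρ, Spec.map_comp,
      Category.assoc, Category.assoc]
    congr 1
    rw [hck, pointOfClosedPoint, ← Spec.map_comp_assoc, Iso.hom_inv_id, Spec.map_id,
      Category.id_comp]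
    rfl
  have hA' : Spec.map π ≫ (pullback fX fC).fromSpecStalk z ≫ (pullback.snd fX fC) =
      (Spec.map π ≫ (pullback fX fC).fromSpecStalk z ≫ (pullback.snd fX fC)) ≫ fC ≫ ck := by
    rw [hA]
    simp only [Category.assoc, hck, pointOfClosedPoint_comp_assoc]
  have hπ : σ ≫ (pullback.fst fX fC).stalkMap z ≫ π = π := Spec.map_injective (by
    rw [← cancel_mono ((pullback fX fC).fromSpecStalk z), Spec.map_comp, Spec.map_comp,
      Category.assoc, Category.assoc, hσ]
    apply pullback.hom_ext
    · simp only [Category.assoc, L, pullback.lift_fst, Scheme.SpecMap_stalkMap_fromSpecStalk]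
    · simp only [Category.assoc, L, pullback.lift_snd,
        Scheme.SpecMap_stalkMap_fromSpecStalk_assoc]
      refine Eq.trans ?_ hA'.symm
      simp only [Category.assoc, pullback.condition_assoc])
  intro b
  have h : π ((pullback.fst fX fC).stalkMap z (σ b)) = π b := congr($hπ b)
  have h2 : π.hom (b - (pullback.fst fX fC).stalkMap z (σ b)) = 0 := by
    rw [map_sub, sub_eq_zero]; exact h.symm
  have h3 : b - (pullback.fst fX fC).stalkMap z (σ b) ∈ Ideal.span {t'} :=
    Ideal.Quotient.eq_zero_iff_mem.1 h2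
  obtain ⟨e, he⟩ := Ideal.mem_span_singleton.1 h3
  exact ⟨e, by rw [← he]; exact (add_sub_cancel _ _).symm⟩

theorem two_le_depth_stalk (fX : X ⟶ Spec (CommRingCat.of k)) [LocallyOfFiniteType fX]
    [AlgebraicGeometry.IsReduced X] [AlgebraicGeometry.IsNoetherian X]
    (fC : C ⟶ Spec (CommRingCat.of k)) [Smooth fC] [IrreducibleSpace C]
    (hpure : ∀ x : X, IsClosed ({x} : Set X) → ¬ IsOpen ({x} : Set X))
    (hdimC : topologicalKrullDim C = 1)
    (F : X.Modules) [F.IsQuasicoherent] (htF : TorSh.IsTorsionFree F)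
    (z : ↑(pullback fX fC)) (hz : IsClosed ({z} : Set _))
    (hc : IsClosed ({pullback.snd fX fC z} : Set C)) :
    (2 : ℕ∞) ≤ LocCoh.depth ((pullback fX fC).presheaf.stalk z)
      (((Scheme.Modules.pullback (pullback.fst fX fC)).obj F).presheaf.stalk z) := by
  set p := pullback.fst fX fC
  set q := pullback.snd fX fC
  set P := (Scheme.Modules.pullback p).obj F
  letI : C.Over (Spec (CommRingCat.of k)) := ⟨fC⟩
  haveI : Smooth (C ↘ Spec (CommRingCat.of k)) := ‹Smooth fC›
  have hreg := Groth.CurveBridge.regular_of_smooth k C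
  haveI := Groth.NeronArea.Weil.isReduced_of_regular hreg
  haveI : IsIntegral C := isIntegral_of_irreducibleSpace_of_isReduced C
  haveI := Groth.CurveBridge.isDVR_stalk k C hdimC hc (hreg _)
  obtain ⟨t, htirr⟩ := IsDiscreteValuationRing.exists_irreducible (C.presheaf.stalk (q z))
  have hm := htirr.maximalIdeal_eq
  obtain ⟨σ, hφσ, hσt, hker⟩ := exists_stalk_section fX fC z hz hc t hm
  have hx := isClosed_fst_apply fX fC z hz
  obtain ⟨a, ham, hareg⟩ := exists_mem_maximalIdeal_isRegular (R := X.presheaf.stalk (p z))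
    fun h0 => hpure _ hx (Groth.Abvar.Hom.isOpen_singleton_of_stalk_dim_zero hx h0)
  haveI := htF (p z)
  have htM : IsSMulRegular (P.presheaf.stalk z) (q.stalkMap z t) := by
    have hfl : FlatMod.IsFlatOverAt q P z :=
      Groth.FlatMorOne.isFlatOverAt_baseChange (IsPullback.of_hasPullback fX fC) F z
        (Groth.Inter.isFlatOver_field k fX F _)
    let := FlatMod.moduleStalkOver q P z
    have : Module.Flat (C.presheaf.stalk (q z)) (P.presheaf.stalk z) := hfl
    have h : IsSMulRegular (P.presheaf.stalk z) t :=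
      Module.Flat.isSMulRegular_of_isRegular (IsRegular.of_ne_zero htirr.ne_zero)
    exact h
  let _ := Groth.QCohMod.stalkAlg p z
  exact two_le_depth_of_section σ.hom (fun r => congr($hφσ r))
    (by
      refine (IsLocalRing.mem_maximalIdeal _).2 fun hu => htirr.not_isUnit ?_
      exact IsLocalHom.map_nonunit (f := (q.stalkMap z).hom) t hu)
    hσt hker
    (by
      refine (IsLocalRing.mem_maximalIdeal _).2 fun hu => (IsLocalRing.mem_maximalIdeal _).1 ham ?_
      exact IsLocalHom.map_nonunit (f := (p.stalkMap z).hom) a hu)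
    hareg.isSMulRegular
    (Groth.QCohMod.pullStalkEquiv p F z) htM

end Groth.TFNodalDepth
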